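import Cfsg.Prelude.Def_Local
import Cfsg.Prelude.Def_LocalEven
import Cfsg.Agent.Lib.ThompsonPQ
import Cfsg.Agent.Lib.CoprimeHyperplane
import Cfsg.Agent.Lib.Cores
import Cfsg.Agent.H440.MinimalAction
import Cfsg.Agent.S0094
import Cfsg.Agent.H442.ExtraRank
import Cfsg.Agent.J3.Fix
import Cfsg.Agent.Lib.ProductSet
set_option linter.all false

-- part: H810/KMBasic
section
/-!
# Groups of characteristic 2-type and of local characteristic `p`: basic lemmas (helper810)

`LC q G`: every `q`-local subgroup `N` of `G` satisfies `C_N(O_q(N)) ≤ O_q(N)`.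
`bound`: if `D` is an elementary abelian `p`-group of rank `k` and `E ≤ C(D)` an elementary abelian
`2`-group of rank `r + 1`, some nontrivial `2`-subgroup is normalised by an elementary abelian `p`-group of
rank `k + r`.
-/

set_option autoImplicit false

namespace Cfsg.Agent.H810.KM

open Subgroup
open Cfsg.Agent.SignalizersComponents.GoldschmidtGen (le_normalizer_of_conj_mem
  conj_mem_of_le_normalizer)

variable {G : Type*} [Group G]

/-! ### generalities -/

theorem elab_comm {q : ℕ} {A : Subgroup G} (hA : Cfsg.IsElementaryAbelian q A) {a b : G}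
    (ha : a ∈ A) (hb : b ∈ A) : a * b = b * a :=
  congrArg Subtype.val (hA.1.is_comm.comm ⟨a, ha⟩ ⟨b, hb⟩)

theorem elab_of {q : ℕ} {A : Subgroup G} (h1 : ∀ a ∈ A, ∀ b ∈ A, a * b = b * a)
    (h2 : ∀ a ∈ A, a ^ q = 1) : Cfsg.IsElementaryAbelian q A :=
  ⟨⟨⟨fun a b => Subtype.ext (h1 a a.2 b b.2)⟩⟩, h2⟩

theorem elab_le {q : ℕ} {A B : Subgroup G} (hA : Cfsg.IsElementaryAbelian q A) (h : B ≤ A) :
    Cfsg.IsElementaryAbelian q B :=
  elab_of (fun _ ha _ hb => elab_comm hA (h ha) (h hb)) (fun a ha => hA.2 a (h ha))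

theorem elab_pgroup {q : ℕ} {A : Subgroup G} (hA : Cfsg.IsElementaryAbelian q A) : IsPGroup q A :=
  fun a => ⟨1, by rw [pow_one]; exact Subtype.ext (hA.2 a a.2)⟩

theorem mem_sup_comm {A B : Subgroup G} (hc : ∀ a ∈ A, ∀ b ∈ B, a * b = b * a) {x : G}
    (hx : x ∈ A ⊔ B) : ∃ a ∈ A, ∃ b ∈ B, x = a * b := by
  let K : Subgroup G :=
    { carrier := {x | ∃ a ∈ A, ∃ b ∈ B, x = a * b}
      one_mem' := ⟨1, one_mem A, 1, one_mem B, (one_mul 1).symm⟩
      mul_mem' := by
        rintro _ _ ⟨a, ha, b, hb, rfl⟩ ⟨c, hc', d, hd, rfl⟩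
        refine ⟨a * c, mul_mem ha hc', b * d, mul_mem hb hd, ?_⟩
        rw [mul_assoc a b, ← mul_assoc b c, ← hc c hc' b hb]
        simp only [mul_assoc]
      inv_mem' := by
        rintro _ ⟨a, ha, b, hb, rfl⟩
        refine ⟨a⁻¹, inv_mem ha, b⁻¹, inv_mem hb, ?_⟩
        rw [hc a⁻¹ (inv_mem ha) b⁻¹ (inv_mem hb), mul_inv_rev] }
  have hA : A ≤ K := fun a ha => ⟨a, ha, 1, one_mem B, (mul_one a).symm⟩
  have hB : B ≤ K := fun b hb => ⟨1, one_mem A, b, hb, (one_mul b).symm⟩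
  exact (sup_le hA hB) hx

theorem elab_sup {q : ℕ} {A B : Subgroup G} (hA : Cfsg.IsElementaryAbelian q A)
    (hB : Cfsg.IsElementaryAbelian q B) (hc : ∀ a ∈ A, ∀ b ∈ B, a * b = b * a) :
    Cfsg.IsElementaryAbelian q (A ⊔ B) := by
  refine elab_of ?_ ?_
  · intro x hx y hy
    obtain ⟨a, ha, b, hb, rfl⟩ := mem_sup_comm hc hx
    obtain ⟨c, hc', d, hd, rfl⟩ := mem_sup_comm hc hy
    have h1 : Commute a c := elab_comm hA ha hc'
    have h2 : Commute b d := elab_comm hB hb hd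
    have h3 : Commute a d := hc a ha d hd
    have h4 : Commute b c := (hc c hc' b hb).symm
    exact ((h1.mul_right h3).mul_left (h4.mul_right h2)).eq
  · intro x hx
    obtain ⟨a, ha, b, hb, rfl⟩ := mem_sup_comm hc hx
    rw [(show Commute a b from hc a ha b hb).mul_pow, hA.2 a ha, hB.2 b hb, one_mul]

/-- the product of two commuting subgroups with trivial intersection -/
theorem card_sup_comm {A B : Subgroup G} (h : ∀ a ∈ A, ∀ b ∈ B, a * b = b * a) (hd : A ⊓ B = ⊥) :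
    Nat.card ↥(A ⊔ B) = Nat.card ↥A * Nat.card ↥B := by
  have hc : ∀ (a : ↥A) (b : ↥B), Commute (A.subtype a) (B.subtype b) := fun a b => h a a.2 b b.2
  have hinj : Function.Injective (A.subtype.noncommCoprod B.subtype hc) := by
    rw [injective_iff_map_eq_one]
    rintro ⟨a, b⟩ hab
    rw [MonoidHom.noncommCoprod_apply] at hab
    have h1 : (a : G) * (b : G) = 1 := hab
    have h2 : (a : G) = (b : G)⁻¹ := eq_inv_of_mul_eq_one_left h1
    have h5 : (a : G) ∈ B := by rw [h2]; exact B.inv_mem b.2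
    have h3 : (a : G) ∈ A ⊓ B := ⟨a.2, h5⟩
    rw [hd, mem_bot] at h3
    have h4 : (b : G) = 1 := by rwa [h3, one_mul] at h1
    exact Prod.ext (Subtype.ext h3) (Subtype.ext h4)
  have h1 : A ⊔ B = (A.subtype.noncommCoprod B.subtype hc).range := by
    rw [MonoidHom.noncommCoprod_range, range_subtype, range_subtype]
  rw [h1, ← Nat.card_congr (MonoidHom.ofInjective hinj).toEquiv, Nat.card_prod]

theorem elab_zpowers {q : ℕ} {x : G} (hx : x ^ q = 1) :
    Cfsg.IsElementaryAbelian q (zpowers x) := by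
  refine elab_of ?_ ?_
  · rintro _ ⟨m, rfl⟩ _ ⟨n, rfl⟩
    exact (Commute.zpow_zpow_self x m n).eq
  · rintro _ ⟨m, rfl⟩
    show (x ^ m) ^ q = 1
    rw [← zpow_natCast, ← zpow_mul, mul_comm, zpow_mul, zpow_natCast, hx, one_zpow]

theorem zpowers_inf_eq_bot {q : ℕ} [hq : Fact q.Prime] {x : G} (hx : orderOf x = q) {A : Subgroup G}
    (hA : x ∉ A) : A ⊓ zpowers x = ⊥ := by
  have hc : Nat.card (zpowers x) = q := by rw [Nat.card_zpowers, hx]
  have : Finite (zpowers x) := Nat.finite_of_card_ne_zero (by rw [hc]; exact hq.out.ne_zero)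
  have h1 : Nat.card (A ⊓ zpowers x : Subgroup G) ∣ q := hc ▸ card_dvd_of_le inf_le_right
  rcases (Nat.dvd_prime hq.out).1 h1 with h2 | h2
  · exact card_eq_one.1 h2
  · exfalso
    apply hA
    have h3 : A ⊓ zpowers x = zpowers x := eq_of_le_of_card_ge inf_le_right (by rw [h2, hc])
    have h4 : x ∈ A ⊓ zpowers x := by rw [h3]; exact mem_zpowers x
    exact h4.1

/-- adjoining an element of order `q` -/
theorem elab_adjoin {q : ℕ} [hq : Fact q.Prime] {A : Subgroup G} (hA : Cfsg.IsElementaryAbelian q A)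
    {x : G} (hx : orderOf x = q) (hxA : x ∉ A) (hc : ∀ a ∈ A, a * x = x * a) :
    Cfsg.IsElementaryAbelian q (A ⊔ zpowers x) ∧
      Nat.card (A ⊔ zpowers x : Subgroup G) = Nat.card A * q := by
  have hc' : ∀ a ∈ A, ∀ b ∈ zpowers x, a * b = b * a := by
    rintro a ha _ ⟨n, rfl⟩
    exact ((show Commute a x from hc a ha).zpow_right n).eq
  refine ⟨elab_sup hA (elab_zpowers (by rw [← hx, pow_orderOf_eq_one])) hc', ?_⟩
  rw [card_sup_comm hc' (zpowers_inf_eq_bot hx hxA), Nat.card_zpowers, hx]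

/-! ### local characteristic -/

/-- `C_N(O_q(N)) ≤ O_q(N)` for all `q`-local subgroups `N` -/
def LC (q : ℕ) (G : Type*) [Group G] : Prop :=
  ∀ T : Subgroup G, IsPGroup q T → T ≠ ⊥ →
    centralizer (Cfsg.pCore q ↥(normalizer (T : Set G)) : Set ↥(normalizer (T : Set G))) ≤
      Cfsg.pCore q ↥(normalizer (T : Set G))

/-- `R = O_q(N_G(T))` -/
structure Core (q : ℕ) (T R : Subgroup G) : Prop where
  pgroup : IsPGroup q R
  norm : normalizer (T : Set G) ≤ normalizer (R : Set G)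
  core : ∀ x ∈ normalizer (T : Set G), (∀ r ∈ R, r * x = x * r) → x ∈ R

theorem LC.exists_core {q : ℕ} (h : LC q G) {T : Subgroup G} (hT : IsPGroup q T) (hT1 : T ≠ ⊥) :
    ∃ R : Subgroup G, Core q T R := by
  refine ⟨(Cfsg.pCore q ↥(normalizer (T : Set G))).map (normalizer (T : Set G)).subtype,
    (Lib.Cores.pCore_isPGroup q).map _, ?_, ?_⟩
  · apply le_normalizer_of_conj_mem
    rintro a ha _ ⟨x, hx, rfl⟩
    exact ⟨⟨a, ha⟩ * x * ⟨a, ha⟩⁻¹, Normal.conj_mem inferInstance x hx _, rfl⟩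
  · intro x hx hc
    refine ⟨⟨x, hx⟩, h T hT hT1 (mem_centralizer_iff.2 fun r hr => Subtype.ext ?_), rfl⟩
    exact hc r ⟨r, hr, rfl⟩

/-- a `q'`-group `E` centralising the `q`-group `D ≠ 1` acts faithfully on `C_R(D)`, `R = O_q(N(D))`. -/
theorem Core.faithful [Finite G] {q : ℕ} [hq : Fact q.Prime] {D R E : Subgroup G} (h : Core q D R)
    (hD : IsPGroup q D) (hE : (Nat.card E).Coprime q) (hED : E ≤ centralizer (D : Set G))
    (hc : R ⊓ centralizer (D : Set G) ≤ centralizer (E : Set G)) : E = ⊥ := by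
  have hEN : E ≤ normalizer (D : Set G) := hED.trans (centralizer_le_normalizer _)
  have h1 : E ≤ centralizer (R : Set G) :=
    Lib.ThompsonPQ.thompson_p_times_q q D E R hD hE h.pgroup (le_centralizer_iff.1 hED)
      (le_normalizer.trans h.norm) (hEN.trans h.norm) hc
  have h2 : E ≤ R := fun x hx => h.core x (hEN hx) (mem_centralizer_iff.1 (h1 hx))
  have h3 : IsPGroup q E := h.pgroup.to_le h2
  obtain ⟨n, hn⟩ := IsPGroup.iff_card.1 h3
  rcases Nat.eq_zero_or_pos n with h0 | h0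
  · exact card_eq_one.1 (by rw [hn, h0, pow_zero])
  · exfalso
    rw [hn] at hE
    exact hq.out.one_lt.ne' (Nat.eq_one_of_dvd_coprimes hE (dvd_pow_self q h0.ne') dvd_rfl)

/-- an involution acting non-trivially on a `q`-group (`q` odd) inverts an element of order `q` -/
theorem exists_inverted [Finite G] {q : ℕ} [hq : Fact q.Prime] (_hq2 : q ≠ 2) {Y : Subgroup G}
    (hY : IsPGroup q Y) {t : G} (ht : t * t = 1) (hn : ∀ y ∈ Y, t * y * t⁻¹ ∈ Y)
    (hne : ∃ y ∈ Y, t * y ≠ y * t) : ∃ x ∈ Y, orderOf x = q ∧ t * x * t⁻¹ = x⁻¹ := by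
  obtain ⟨y, hy, hyt⟩ := hne
  have hti : t⁻¹ = t := inv_eq_of_mul_eq_one_left ht
  set c : G := y⁻¹ * (t * y * t⁻¹) with hc
  have hcY : c ∈ Y := mul_mem (inv_mem hy) (hn y hy)
  have hc1 : c ≠ 1 := by
    intro h
    apply hyt
    have h1 : t * y * t⁻¹ = y := by
      have := inv_mul_eq_one.1 h
      exact this.symm
    rw [mul_inv_eq_iff_eq_mul] at h1
    exact h1
  have hct : t * c * t⁻¹ = c⁻¹ := by
    have h1 : c⁻¹ = t * y⁻¹ * t * y := by
      rw [hc, hti, mul_inv_rev, mul_inv_rev, mul_inv_rev, inv_inv, hti]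
      simp only [mul_assoc]
    rw [h1, hc, hti]
    simp only [mul_assoc]
    rw [ht, mul_one]
  have hctn : ∀ n : ℕ, t * c ^ n * t⁻¹ = (c ^ n)⁻¹ := by
    intro n
    rw [← conj_pow, hct, inv_pow]
  obtain ⟨n, hn'⟩ := (IsPGroup.iff_orderOf.1 hY) ⟨c, hcY⟩
  have ho : orderOf c = q ^ n := by rw [← hn', Subgroup.orderOf_mk]
  have hn0 : n ≠ 0 := by
    rintro rfl
    rw [pow_zero] at ho
    exact hc1 (orderOf_eq_one_iff.1 ho)
  obtain ⟨m, rfl⟩ := Nat.exists_eq_succ_of_ne_zero hn0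
  refine ⟨c ^ q ^ m, pow_mem hcY _, ?_, hctn _⟩
  rw [orderOf_pow, ho, Nat.gcd_eq_right (pow_dvd_pow q (Nat.le_succ m)), Nat.succ_eq_add_one,
    pow_succ, Nat.mul_div_cancel_left _ (pow_pos hq.out.pos m)]

/-! ### the rank bound -/

/-- some elementary abelian `p`-group of order `p ^ k` normalises a nontrivial `2`-group -/
def Pk (p k : ℕ) (G : Type*) [Group G] : Prop :=
  ∃ A T : Subgroup G, Cfsg.IsElementaryAbelian p A ∧ Nat.card A = p ^ k ∧ IsPGroup 2 T ∧ T ≠ ⊥ ∧
    A ≤ normalizer (T : Set G)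

theorem relIndex_mul_card' {H K : Subgroup G} (h : H ≤ K) :
    H.relIndex K * Nat.card ↥H = Nat.card ↥K := by
  have h1 := (H.subgroupOf K).index_mul_card
  have h2 : Nat.card ↥(H.subgroupOf K) = Nat.card ↥H := Nat.card_congr (subgroupOfEquivOfLe h).toEquiv
  rw [h2] at h1
  exact h1

theorem exists_noncomm_hyperplane [Finite G] {s : ℕ} [hs : Fact s.Prime] {E Q : Subgroup G}
    (hE : Cfsg.IsElementaryAbelian s E) (hE1 : E ≠ ⊥) (hQ : ¬ s ∣ Nat.card Q)
    (hEQ : E ≤ normalizer (Q : Set G)) {C : Subgroup G} (h : ¬ Q ≤ C) :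
    ∃ B : Subgroup G, B ≤ E ∧ B.relIndex E = s ∧ ¬ Q ⊓ centralizer (B : Set G) ≤ C := by
  by_contra hcon
  push Not at hcon
  apply h
  rw [← Lib.CoprimeHyperplane.iSup_centralizer_hyperplane hE hE1 hQ hEQ]
  exact iSup_le fun B => hcon B.1 B.2.1 B.2.2

theorem le_normalizer_inf {A H K : Subgroup G} (hH : A ≤ normalizer (H : Set G))
    (hK : A ≤ normalizer (K : Set G)) : A ≤ normalizer ((H ⊓ K : Subgroup G) : Set G) :=
  le_normalizer_of_conj_mem fun _ ha _ hx =>
    ⟨conj_mem_of_le_normalizer hH ha hx.1, conj_mem_of_le_normalizer hK ha hx.2⟩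

/-- what normalises `H` normalises `C(H)` -/
theorem le_normalizer_centralizer {A H : Subgroup G} (hH : A ≤ normalizer (H : Set G)) :
    A ≤ normalizer ((centralizer (H : Set G) : Subgroup G) : Set G) := by
  apply le_normalizer_of_conj_mem
  intro a ha x hx
  rw [mem_centralizer_iff] at hx ⊢
  intro h hh
  have h1 := hx _ (conj_mem_of_le_normalizer hH (inv_mem ha) hh)
  calc h * (a * x * a⁻¹) = a * ((a⁻¹ * h * a⁻¹⁻¹) * x) * a⁻¹ := by group
    _ = a * (x * (a⁻¹ * h * a⁻¹⁻¹)) * a⁻¹ := by rw [h1]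
    _ = a * x * a⁻¹ * h := by group

theorem not_dvd_card_of_isPGroup [Finite G] {s q : ℕ} [Fact s.Prime] [Fact q.Prime] (hsq : s ≠ q)
    {Q : Subgroup G} (hQ : IsPGroup q Q) : ¬ s ∣ Nat.card Q := by
  obtain ⟨n, hn⟩ := IsPGroup.iff_card.1 hQ
  rw [hn]
  intro h
  exact hsq ((Nat.prime_dvd_prime_iff_eq Fact.out Fact.out).1 ((Fact.out : s.Prime).dvd_of_dvd_pow h))

theorem coprime_card_of_isPGroup [Finite G] {s q : ℕ} [Fact s.Prime] [Fact q.Prime] (hsq : s ≠ q)
    {Q : Subgroup G} (hQ : IsPGroup q Q) : (Nat.card Q).Coprime s :=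
  ((Nat.Prime.coprime_iff_not_dvd Fact.out).2 (not_dvd_card_of_isPGroup hsq hQ)).symm

theorem bound [Finite G] {p : ℕ} [hp : Fact p.Prime] (hp2 : p ≠ 2) (hL : LC p G) :
    ∀ (r k : ℕ) (D E : Subgroup G), Cfsg.IsElementaryAbelian p D → Nat.card D = p ^ k → 1 ≤ k →
      Cfsg.IsElementaryAbelian 2 E → Nat.card E = 2 ^ (r + 1) → E ≤ centralizer (D : Set G) →
      Pk p (k + r) G := by
  intro r
  induction r with
  | zero =>
    intro k D E hD hDc hk hE hEc hED
    refine ⟨D, E, hD, hDc, elab_pgroup hE, ?_, ?_⟩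
    · rintro rfl
      rw [card_bot] at hEc
      norm_num at hEc
    · exact (le_centralizer_iff.1 hED).trans (centralizer_le_normalizer _)
  | succ r ih =>
    intro k D E hD hDc hk hE hEc hED
    have h2 : Fact (Nat.Prime 2) := ⟨Nat.prime_two⟩
    have hDp : IsPGroup p D := elab_pgroup hD
    have hD1 : D ≠ ⊥ := by
      rintro rfl
      rw [card_bot] at hDc
      exact (Nat.one_lt_pow (by omega) hp.out.one_lt).ne hDc
    have hE1 : E ≠ ⊥ := by
      rintro rfl
      rw [card_bot] at hEc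
      exact (Nat.one_lt_pow (by omega) (by norm_num)).ne hEc
    obtain ⟨R, hR⟩ := hL.exists_core hDp hD1
    have hEN : E ≤ normalizer (D : Set G) := hED.trans (centralizer_le_normalizer _)
    have hECc : (Nat.card E).Coprime p := coprime_card_of_isPGroup (s := p) hp2 (elab_pgroup hE)
    have hnot : ¬ R ⊓ centralizer (D : Set G) ≤ centralizer (E : Set G) := fun hc =>
      hE1 (hR.faithful hDp hECc hED hc)
    have hR1 : IsPGroup p ↥(R ⊓ centralizer (D : Set G)) := hR.pgroup.to_le inf_le_left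
    have hER : E ≤ normalizer ((R ⊓ centralizer (D : Set G) : Subgroup G) : Set G) :=
      le_normalizer_inf (hEN.trans hR.norm) (le_normalizer_centralizer hEN)
    obtain ⟨B, hBE, hBi, hB⟩ := exists_noncomm_hyperplane hE hE1
      (not_dvd_card_of_isPGroup (s := 2) (Ne.symm hp2) hR1) hER hnot
    obtain ⟨y, hy, hyE⟩ := SetLike.not_le_iff_exists.1 hB
    rw [mem_centralizer_iff] at hyE
    push Not at hyE
    obtain ⟨t, ht, hty⟩ := hyE
    have htt : t * t = 1 := by rw [← pow_two]; exact hE.2 t ht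
    obtain ⟨x, hxY, hxo, hxt⟩ := exists_inverted hp2 (hR1.to_le inf_le_left) htt
      (Y := R ⊓ centralizer (D : Set G) ⊓ centralizer (B : Set G))
      (fun y hy => by
        refine ⟨conj_mem_of_le_normalizer hER ht hy.1, ?_⟩
        refine conj_mem_of_le_normalizer (A := E) (le_normalizer_centralizer ?_) ht hy.2
        exact le_normalizer_of_conj_mem fun a ha b hb => by
          rw [elab_comm hE ha (hBE hb), mul_inv_cancel_right]; exact hb)
      ⟨y, hy, hty⟩
    have hxD : x ∉ D := by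
      intro hx
      have h3 : x * t = t * x := mem_centralizer_iff.1 (hED ht) x hx
      rw [← h3, mul_inv_cancel_right] at hxt
      have h4 : x ^ 2 = 1 := by rw [pow_two]; nth_rewrite 2 [hxt]; exact mul_inv_cancel x
      have h5 := orderOf_dvd_of_pow_eq_one h4
      rw [hxo] at h5
      exact hp2 ((Nat.prime_dvd_prime_iff_eq hp.out Nat.prime_two).1 h5)
    obtain ⟨hD', hD'c⟩ := elab_adjoin hD hxo hxD (mem_centralizer_iff.1 hxY.1.2)
    have hBc : Nat.card B = 2 ^ (r + 1) := by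
      have h6 := relIndex_mul_card' hBE
      rw [hBi, hEc, pow_succ (n := r + 1), mul_comm] at h6
      exact Nat.eq_of_mul_eq_mul_right (by norm_num) h6
    have := ih (k + 1) (D ⊔ zpowers x) B hD' (by rw [hD'c, hDc, pow_succ]) (by omega)
      (elab_le hE hBE) hBc ?_
    · rwa [show k + (r + 1) = k + 1 + r by ring]
    · rw [le_centralizer_iff]
      refine sup_le (le_centralizer_iff.1 (hBE.trans hED)) ?_
      rw [zpowers_le]
      exact hxY.2

end Cfsg.Agent.H810.KM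
end

-- part: H810/KMPairs
section
/-!
# Groups of characteristic 2-type and of local characteristic `p`: minimal 2-groups (helper810)

`A` is an elementary abelian `p`-group of the largest rank `m ≥ 3` normalising a nontrivial 2-group.  No
elementary abelian 2-group is normalised, but not centralised by `A` (`noV`), and all minimal `A`-invariant
2-groups not centralised by `A` are extraspecial (`extra`).
-/

set_option autoImplicit false

namespace Cfsg.Agent.H810.KM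

open Subgroup
open scoped commutatorElement
open Cfsg.Agent.SignalizersComponents.GoldschmidtGen (le_normalizer_of_conj_mem
  conj_mem_of_le_normalizer)
open Cfsg.Agent.H440

variable {G : Type*} [Group G]

/-- `A` has order `p ^ m`, `m ≥ 3` maximal -/
structure Hyp (p m : ℕ) (G : Type*) [Group G] : Prop where
  odd : p ≠ 2
  lcp : LC p G
  lc2 : LC 2 G
  max : ∀ k, Pk p k G → k ≤ m
  three : 3 ≤ m

/-- minimal among the `A`-invariant 2-groups not centralised by `A` -/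
structure Mn (A T : Subgroup G) : Prop where
  two : IsPGroup 2 T
  norm : A ≤ normalizer (T : Set G)
  ne : ⁅T, A⁆ ≠ ⊥
  min : ∀ U : Subgroup G, U < T → A ≤ normalizer (U : Set G) → ⁅U, A⁆ = ⊥

theorem comm_bot_iff {T A : Subgroup G} : ⁅T, A⁆ = ⊥ ↔ T ≤ centralizer (A : Set G) :=
  commutator_eq_bot_iff_le_centralizer

theorem exists_Mn [Finite G] {A T : Subgroup G} (h2 : IsPGroup 2 T) (hn : A ≤ normalizer (T : Set G))
    (hne : ⁅T, A⁆ ≠ ⊥) : ∃ T' ≤ T, Mn A T' := by
  obtain ⟨M, hMT, hM⟩ := Set.Finite.exists_le_minimal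
    (s := {U : Subgroup G | A ≤ normalizer (U : Set G) ∧ ⁅U, A⁆ ≠ ⊥}) (Set.toFinite _) (a := T) ⟨hn, hne⟩
  refine ⟨M, hMT, h2.to_le hMT, hM.prop.1, hM.prop.2, ?_⟩
  intro U hU hUn
  by_contra hcon
  exact hU.not_ge (hM.le_of_le ⟨hUn, hcon⟩ hU.le)

theorem Mn.le_or [Finite G] {A T U : Subgroup G} (h : Mn A T) (hU : U ≤ T)
    (hn : A ≤ normalizer (U : Set G)) : U = T ∨ U ≤ centralizer (A : Set G) := by
  rcases hU.eq_or_lt with h1 | h1
  · exact Or.inl h1
  · exact Or.inr (comm_bot_iff.1 (h.min U h1 hn))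

theorem Mn.ne_bot {A T : Subgroup G} (h : Mn A T) : T ≠ ⊥ := by
  rintro rfl
  exact h.ne (commutator_bot_left _)

theorem Mn.not_le {A T : Subgroup G} (h : Mn A T) : ¬ T ≤ centralizer (A : Set G) := fun hc =>
  h.ne (comm_bot_iff.2 hc)

theorem Mn.comm_eq [Finite G] {A T : Subgroup G} (h : Mn A T) (hA : (Nat.card A).Coprime 2) :
    ⁅T, A⁆ = T :=
  have : Fact (Nat.Prime 2) := ⟨Nat.prime_two⟩
  MinimalAction.commutator_eq h.two h.norm le_rfl le_normalizer hA h.ne h.min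

theorem Mn.mem_of_fixed [Finite G] {A T : Subgroup G} (h : Mn A T) (hA : (Nat.card A).Coprime 2)
    {N : Subgroup G} (hN : N ≤ T) (hAN : A ≤ normalizer (N : Set G)) (hTT : ⁅T, T⁆ ≤ N) {x : G}
    (hx : x ∈ T) (hfix : ∀ a ∈ A, ⁅x, a⁆ ∈ N) : x ∈ N :=
  have : Fact (Nat.Prime 2) := ⟨Nat.prime_two⟩
  MinimalAction.mem_of_fixed h.two h.norm le_rfl hA (h.comm_eq hA) hN hAN hTT hx hfix

theorem Mn.frat_le_centralizer [Finite G] {A T : Subgroup G} (h : Mn A T) :
    MinimalAction.frat T ≤ centralizer (A : Set G) := by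
  rcases h.le_or (MinimalAction.frat_le T) (MinimalAction.le_normalizer_frat h.norm) with h1 | h1
  · exact absurd h1 (MinimalAction.frat_ne h.ne_bot)
  · exact h1

theorem Mn.elab_of_inf [Finite G] {A T : Subgroup G} (h : Mn A T)
    (hc : T ⊓ centralizer (A : Set G) = ⊥) : Cfsg.IsElementaryAbelian 2 T := by
  have : Fact (Nat.Prime 2) := ⟨Nat.prime_two⟩
  have h1 : MinimalAction.frat T = ⊥ := by
    rw [eq_bot_iff, ← hc]
    exact le_inf (MinimalAction.frat_le T) h.frat_le_centralizer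
  refine elab_of ?_ ?_
  · intro a ha b hb
    have h2 : ⁅a, b⁆ ∈ MinimalAction.frat T :=
      MinimalAction.commutator_le_frat h.two (commutator_mem_commutator ha hb)
    rw [h1, mem_bot] at h2
    exact commutatorElement_eq_one_iff_mul_comm.1 h2
  · intro a ha
    have h2 : a ^ 2 ∈ MinimalAction.frat T := MinimalAction.pow_mem_frat h.two ha
    rwa [h1, mem_bot] at h2

theorem Mn.inf_of_elab [Finite G] {A T : Subgroup G} (h : Mn A T) (hA : (Nat.card A).Coprime 2)
    (hT : Cfsg.IsElementaryAbelian 2 T) : T ⊓ centralizer (A : Set G) = ⊥ := by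
  rw [eq_bot_iff]
  intro x hx
  refine h.mem_of_fixed hA bot_le ?_ ?_ hx.1 ?_
  · exact le_normalizer_of_conj_mem fun a _ x hx => by
      rw [mem_bot] at hx ⊢
      rw [hx, mul_one, mul_inv_cancel]
  · rw [commutator_le]
    intro a ha b hb
    rw [mem_bot, commutatorElement_eq_one_iff_mul_comm]
    exact elab_comm hT ha hb
  · intro a ha
    rw [mem_bot, commutatorElement_eq_one_iff_mul_comm]
    exact (mem_centralizer_iff.1 hx.2 a ha).symm

theorem Mn.card_eq [Finite G] {A T : Subgroup G} (h : Mn A T) : ∃ v, Nat.card T = 2 ^ v ∧ 2 ≤ v := by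
  have : Fact (Nat.Prime 2) := ⟨Nat.prime_two⟩
  obtain ⟨v, hv⟩ := IsPGroup.iff_card.1 h.two
  refine ⟨v, hv, ?_⟩
  by_contra hlt
  have : v = 0 ∨ v = 1 := by omega
  rcases this with rfl | rfl
  · exact h.ne_bot (card_eq_one.1 (by rw [hv, pow_zero]))
  · rw [pow_one] at hv
    obtain ⟨z, -, huniv⟩ := (Nat.card_eq_two_iff' (1 : T)).mp hv
    apply h.not_le
    intro x hx
    rw [mem_centralizer_iff]
    intro a ha
    by_cases hx1 : x = 1
    · rw [hx1, mul_one, one_mul]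
    · have h1 : a * x * a⁻¹ ∈ T := conj_mem_of_le_normalizer h.norm ha hx
      have h2 := huniv ⟨x, hx⟩ (fun h0 => hx1 (congrArg Subtype.val h0))
      have h3 := huniv ⟨a * x * a⁻¹, h1⟩ (fun h0 => hx1 (by
        have h4 := congrArg Subtype.val h0
        change a * x * a⁻¹ = 1 at h4
        rwa [mul_inv_eq_one, mul_eq_left] at h4))
      have h5 := congrArg Subtype.val (h3.trans h2.symm)
      change a * x * a⁻¹ = x at h5
      exact mul_inv_eq_iff_eq_mul.1 h5

section Rank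

variable [Finite G] {p m : ℕ} [hp : Fact p.Prime]

theorem Hyp.le (H : Hyp p m G) {r k : ℕ} {D E : Subgroup G} (hD : Cfsg.IsElementaryAbelian p D)
    (hDc : Nat.card D = p ^ k) (hk : 1 ≤ k) (hE : Cfsg.IsElementaryAbelian 2 E)
    (hEc : Nat.card E = 2 ^ (r + 1)) (hED : E ≤ centralizer (D : Set G)) : k + r ≤ m :=
  H.max _ (bound H.odd H.lcp r k D E hD hDc hk hE hEc hED)

theorem Hyp.coprime (H : Hyp p m G) {A : Subgroup G} (hA : Cfsg.IsElementaryAbelian p A) :
    (Nat.card A).Coprime 2 :=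
  have : Fact (Nat.Prime 2) := ⟨Nat.prime_two⟩
  coprime_card_of_isPGroup (Ne.symm H.odd) (elab_pgroup hA)

theorem ne_bot_of_card {A : Subgroup G} {k : ℕ} (hc : Nat.card A = p ^ k) (hk : 1 ≤ k) : A ≠ ⊥ := by
  rintro rfl
  rw [card_bot] at hc
  exact (Nat.one_lt_pow (by omega) hp.out.one_lt).ne hc

theorem card_hyperplane {A X : Subgroup G} (hXA : X ≤ A) (hX : X.relIndex A = p) {k : ℕ}
    (hA : Nat.card A = p ^ (k + 1)) : Nat.card X = p ^ k := by
  have h6 := relIndex_mul_card' hXA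
  rw [hX, hA, pow_succ, mul_comm] at h6
  exact Nat.eq_of_mul_eq_mul_right hp.out.pos h6

/-- a new minimal 2-group centralising a given `T₁` -/
theorem Hyp.pairUp (H : Hyp p m G) {A : Subgroup G} (hA : Cfsg.IsElementaryAbelian p A)
    {T₁ B : Subgroup G} (hT : IsPGroup 2 T₁) (hT1 : T₁ ≠ ⊥) (hAT : A ≤ normalizer (T₁ : Set G))
    (hB : B ≤ A) (hB1 : B ≠ ⊥) (hTB : T₁ ≤ centralizer (B : Set G)) :
    ∃ X : Subgroup G, X ≤ A ∧ X.relIndex A = p ∧ ¬ B ≤ X ∧ ∃ T₂ : Subgroup G, Mn A T₂ ∧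
      T₂ ≤ centralizer (T₁ : Set G) ∧ T₂ ≤ centralizer (X : Set G) := by
  have h2 : Fact (Nat.Prime 2) := ⟨Nat.prime_two⟩
  have hA1 : A ≠ ⊥ := by
    rintro rfl
    exact hB1 (eq_bot_iff.2 hB)
  obtain ⟨U, hU⟩ := H.lc2.exists_core hT hT1
  have hnot : ¬ U ⊓ centralizer (T₁ : Set G) ≤ centralizer (B : Set G) := fun hc =>
    hB1 (hU.faithful hT (H.coprime (elab_le hA hB)) (le_centralizer_iff.1 hTB) hc)
  have hU1 : IsPGroup 2 ↥(U ⊓ centralizer (T₁ : Set G)) := hU.pgroup.to_le inf_le_left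
  have hAU : A ≤ normalizer ((U ⊓ centralizer (T₁ : Set G) : Subgroup G) : Set G) :=
    le_normalizer_inf (hAT.trans hU.norm) (le_normalizer_centralizer hAT)
  obtain ⟨X, hXA, hXi, hX⟩ := exists_noncomm_hyperplane hA hA1
    (not_dvd_card_of_isPGroup (s := p) H.odd hU1) hAU hnot
  refine ⟨X, hXA, hXi, fun hBX => hX (inf_le_right.trans (centralizer_le hBX)), ?_⟩
  have hAX : A ≤ normalizer (X : Set G) := le_normalizer_of_conj_mem fun a ha b hb => by
    rw [elab_comm hA ha (hXA hb), mul_inv_cancel_right]; exact hb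
  obtain ⟨T₂, hT2, hMn⟩ := exists_Mn (A := A) (hU1.to_le (inf_le_left (b := centralizer (X : Set G))))
    (le_normalizer_inf hAU (le_normalizer_centralizer hAX))
    (fun hc => hX ((comm_bot_iff.1 hc).trans (centralizer_le hB)))
  exact ⟨T₂, hMn, hT2.trans (inf_le_left.trans inf_le_right), hT2.trans inf_le_right⟩

/-- two different hyperplanes meet in a subgroup of index at most `p ^ 2` -/
theorem card_inf_hyperplane {A B X : Subgroup G} (hBA : B ≤ A) (hBi : B.relIndex A = p)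
    (hXi : X.relIndex A = p) {k : ℕ} (hA : Nat.card A = p ^ (k + 2)) (hAp : IsPGroup p A) :
    ∃ j, Nat.card (B ⊓ X : Subgroup G) = p ^ j ∧ k ≤ j := by
  have hB : Nat.card B = p ^ (k + 1) := card_hyperplane hBA hBi hA
  obtain ⟨j, hj⟩ := IsPGroup.iff_card.1 (hAp.to_le (inf_le_left.trans hBA) : IsPGroup p ↥(B ⊓ X))
  refine ⟨j, hj, ?_⟩
  have h1 := relIndex_mul_card' (inf_le_left : B ⊓ X ≤ B)
  have h2 : (B ⊓ X).relIndex B ≤ p := by
    rw [inf_comm, inf_relIndex_right]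
    rw [← hXi]
    exact relIndex_le_of_le_right hBA (by rw [hXi]; exact hp.out.ne_zero)
  rw [hB, hj] at h1
  by_contra hlt
  have h3 : p ^ j * p ≤ p ^ k := by
    rw [← pow_succ]; exact Nat.pow_le_pow_right hp.out.pos (by omega)
  have h4 : p ^ (k + 1) ≤ p ^ k := by
    calc p ^ (k + 1) = (B ⊓ X).relIndex B * p ^ j := h1.symm
      _ ≤ p * p ^ j := Nat.mul_le_mul_right _ h2
      _ = p ^ j * p := mul_comm _ _
      _ ≤ p ^ k := h3
  have h5 : p ^ k < p ^ (k + 1) := Nat.pow_lt_pow_right hp.out.one_lt (Nat.lt_succ_self k)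
  omega

/-- A normalises no elementary abelian 2-group that it does not centralise. -/
theorem Hyp.noV (H : Hyp p m G) {A V : Subgroup G} (hA : Cfsg.IsElementaryAbelian p A)
    (hAc : Nat.card A = p ^ m) (hV : Cfsg.IsElementaryAbelian 2 V)
    (hAV : A ≤ normalizer (V : Set G)) (hne : ⁅V, A⁆ ≠ ⊥) : False := by
  have h2 : Fact (Nat.Prime 2) := ⟨Nat.prime_two⟩
  obtain ⟨W, hWV, hW⟩ := exists_Mn (elab_pgroup hV) hAV hne
  replace hV := elab_le hV hWV
  clear hWV hne hAV V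
  obtain ⟨n, rfl⟩ : ∃ n, m = n + 2 := ⟨m - 2, by have := H.three; omega⟩
  have hn : 1 ≤ n := by have := H.three; omega
  have hco := H.coprime hA
  have hA1 : A ≠ ⊥ := ne_bot_of_card hAc (by omega)
  have hW0 := hW.inf_of_elab hco hV
  obtain ⟨v, hv, hv2⟩ := hW.card_eq
  -- the hyperplane centralising `W`
  obtain ⟨B, hBA, hBi, hB⟩ := exists_noncomm_hyperplane hA hA1
    (not_dvd_card_of_isPGroup (s := p) H.odd hW.two) hW.norm hW.not_le
  have hBn : A ≤ normalizer (B : Set G) := le_normalizer_of_conj_mem fun a ha b hb => by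
    rw [elab_comm hA ha (hBA hb), mul_inv_cancel_right]; exact hb
  have hWB : W ≤ centralizer (B : Set G) := by
    rcases hW.le_or (inf_le_left : W ⊓ centralizer (B : Set G) ≤ W)
      (le_normalizer_inf hW.norm (le_normalizer_centralizer hBn)) with h1 | h1
    · rw [← h1]; exact inf_le_right
    · exact absurd h1 hB
  have hBc : Nat.card B = p ^ (n + 1) := card_hyperplane hBA hBi hAc
  obtain ⟨X, hXA, hXi, hBX, T, hT, hTW, hTX⟩ := H.pairUp hA hW.two hW.ne_bot hW.norm hBA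
    (ne_bot_of_card hBc (by omega)) hWB
  have hXc : Nat.card X = p ^ (n + 1) := card_hyperplane hXA hXi hAc
  by_cases hc : T ⊓ centralizer (A : Set G) = ⊥
  · have hTe := hT.elab_of_inf hc
    obtain ⟨w, hw, hw2⟩ := hT.card_eq
    have hWT : W ⊓ T = ⊥ := by
      rcases hW.le_or (inf_le_left : W ⊓ T ≤ W) (le_normalizer_inf hW.norm hT.norm) with h1 | h1
      · exfalso
        have h3 : W ≤ centralizer (X : Set G) := by rw [← h1]; exact inf_le_right.trans hTX
        -- `B` and `X` both centralise `W`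
        have hBXA : A ≤ B ⊔ X := by
          have h4 : B ⊔ X ≤ A := sup_le hBA hXA
          have h5 : B < B ⊔ X := by
            refine lt_of_le_of_ne le_sup_left fun h6 => hBX ?_
            have h7 : X ≤ B := by rw [h6]; exact le_sup_right
            rw [eq_of_le_of_card_ge h7 (by rw [hBc, hXc])]
          have h6 := relIndex_mul_relIndex B (B ⊔ X) A le_sup_left h4
          rw [hBi] at h6
          have h7 : (B ⊔ X).relIndex A = 1 := by
            rcases (Nat.dvd_prime hp.out).1 (Dvd.intro_left _ h6) with h8 | h8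
            · exact h8
            · exfalso
              rw [h8] at h6
              have h9 : B.relIndex (B ⊔ X) = 1 :=
                Nat.eq_of_mul_eq_mul_right hp.out.pos (by rw [h6, one_mul])
              exact h5.not_ge (relIndex_eq_one.1 h9)
          exact relIndex_eq_one.1 h7
        apply hW.not_le
        rw [le_centralizer_iff]
        exact hBXA.trans (sup_le (le_centralizer_iff.1 hWB) (le_centralizer_iff.1 h3))
      · rw [eq_bot_iff, ← hW0]
        exact le_inf inf_le_left h1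
    have hcomm : ∀ a ∈ W, ∀ b ∈ T, a * b = b * a := fun a ha b hb => mem_centralizer_iff.1 (hTW hb) a ha
    obtain ⟨j, hj, hjn⟩ := card_inf_hyperplane hBA hBi hXi hAc (elab_pgroup hA)
    have h1 := H.le (r := v + w - 1) (k := j) (D := B ⊓ X) (E := W ⊔ T) (elab_le hA (inf_le_left.trans hBA))
      hj (by omega) (elab_sup hV hTe hcomm) (by
        rw [card_sup_comm hcomm hWT, hv, hw, ← pow_add]; congr 1; omega)
      (sup_le (hWB.trans (centralizer_le inf_le_left)) (hTX.trans (centralizer_le inf_le_right)))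
    omega
  · -- an involution of `T` centralised by `A`
    have h3 : IsPGroup 2 ↥(T ⊓ centralizer (A : Set G)) := hT.two.to_le inf_le_left
    obtain ⟨s, hs⟩ := IsPGroup.iff_card.1 h3
    have hs0 : s ≠ 0 := by
      rintro rfl
      exact hc (card_eq_one.1 (by rw [hs, pow_zero]))
    obtain ⟨f, hf⟩ := exists_prime_orderOf_dvd_card' (G := ↥(T ⊓ centralizer (A : Set G))) 2
      (by rw [hs]; exact dvd_pow_self 2 hs0)
    have hfo : orderOf (f : G) = 2 := by rw [← hf, Subgroup.orderOf_coe]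
    have hfW : (f : G) ∉ W := by
      intro hfW
      have h4 : (f : G) ∈ W ⊓ centralizer (A : Set G) := ⟨hfW, f.2.2⟩
      rw [hW0, mem_bot] at h4
      rw [h4, orderOf_one] at hfo
      omega
    obtain ⟨he, hec⟩ := elab_adjoin hV hfo hfW (fun a ha => mem_centralizer_iff.1 (hTW f.2.1) a ha)
    have h1 := H.le (r := v) (k := n + 1) (D := B) (elab_le hA hBA) hBc (by omega) he
      (by rw [hec, hv, pow_succ]) (sup_le hWB (by
        rw [zpowers_le]; exact centralizer_le hBA f.2.2))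
    omega

/-- all minimal 2-groups are extraspecial, with centre centralised by `A` -/
theorem Hyp.extra (H : Hyp p m G) {A T : Subgroup G} (hA : Cfsg.IsElementaryAbelian p A)
    (hAc : Nat.card A = p ^ m) (hT : Mn A T) : Cfsg.IsExtraspecial 2 T ∧
      (center T).map T.subtype ≤ centralizer (A : Set G) := by
  have h2 : Fact (Nat.Prime 2) := ⟨Nat.prime_two⟩
  have hco := H.coprime hA
  rcases MinimalAction.elementary_or_special hT.two hT.norm le_rfl le_normalizer hco hT.ne hT.min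
    with he | hs
  · exact (H.noV hA hAc he hT.norm hT.ne).elim
  · have hZ : (center T).map T.subtype ≤ centralizer (A : Set G) := by
      rw [← hs.2.1]
      exact hT.frat_le_centralizer
    refine ⟨⟨hs, ?_⟩, hZ⟩
    have hZe : Cfsg.IsElementaryAbelian 2 ((center T).map T.subtype) := by
      refine elab_of ?_ ?_
      · rintro _ ⟨a, ha, rfl⟩ _ ⟨b, -, rfl⟩
        exact congrArg Subtype.val (mem_center_iff.1 ha b).symm
      · rintro _ ⟨a, ha, rfl⟩
        exact congrArg Subtype.val (S0094.result hs a ha)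
    have hZc : Nat.card ((center T).map T.subtype) = Nat.card (center T) :=
      (Nat.card_congr ((center T).equivMapOfInjective _ T.subtype_injective).toEquiv).symm
    obtain ⟨n, hn⟩ := IsPGroup.iff_card.1 (elab_pgroup hZe)
    have hn0 : n ≠ 0 := by
      rintro rfl
      rw [hZc, pow_zero] at hn
      have : Nontrivial T := (Subgroup.nontrivial_iff_ne_bot _).2 hT.ne_bot
      have h3 : Nontrivial (center T) := hT.two.center_nontrivial
      exact (Subgroup.nontrivial_iff_ne_bot _).1 h3 (card_eq_one.1 hn)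
    have h4 := H.le (r := n - 1) (k := m) hA hAc (by have := H.three; omega) hZe
      (by rw [hn]; congr 1; omega) hZ
    rw [← hZc, hn, show n = 1 by omega, pow_one]

end Rank

end Cfsg.Agent.H810.KM
end

-- part: H810/KMExtra
section
/-!
# Groups of characteristic 2-type and of local characteristic `p`: pairs of extraspecial groups (helper810)
-/

set_option autoImplicit false

namespace Cfsg.Agent.H810.KM

open Subgroup
open scoped commutatorElement
open Cfsg.Agent.SignalizersComponents.GoldschmidtGen (le_normalizer_of_conj_mem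
  conj_mem_of_le_normalizer)
open Cfsg.Agent.Transfer.ExtraspecialTwo (CentralTwo)

variable {G : Type*} [Group G]

/-- an extraspecial 2-group with centre `⟨z⟩ ≤ C(A)` -/
structure Ex (A T : Subgroup G) (z : G) : Prop where
  zT : z ∈ T
  z1 : z ≠ 1
  zz : z * z = 1
  zA : ∀ a ∈ A, a * z = z * a
  zc : ∀ x ∈ T, z * x = x * z
  cen : ∀ x ∈ T, (∀ y ∈ T, y * x = x * y) → x = 1 ∨ x = z
  comm : ∀ x ∈ T, ∀ y ∈ T, ⁅x, y⁆ = 1 ∨ ⁅x, y⁆ = z
  sq : ∀ x ∈ T, x * x = 1 ∨ x * x = z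
  card : ∃ n, 1 ≤ n ∧ Nat.card T = 2 ^ (2 * n + 1)

theorem Ex.order {A T : Subgroup G} {z : G} (h : Ex A T z) : orderOf z = 2 :=
  orderOf_eq_prime (by rw [pow_two]; exact h.zz) h.z1

theorem Ex.mem_zpowers {A T : Subgroup G} {z : G} (h : Ex A T z) {x : G} :
    x ∈ zpowers z ↔ x = 1 ∨ x = z := by
  constructor
  · rintro ⟨n, rfl⟩
    rcases Int.even_or_odd' n with ⟨k, rfl | rfl⟩
    · left
      show z ^ (2 * k) = 1
      rw [zpow_mul, zpow_two, h.zz, one_zpow]
    · right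
      show z ^ (2 * k + 1) = z
      rw [zpow_add, zpow_mul, zpow_two, h.zz, one_zpow, one_mul, zpow_one]
  · rintro (rfl | rfl)
    · exact one_mem _
    · exact Subgroup.mem_zpowers _

theorem exists_ex [Finite G] {p m : ℕ} [hp : Fact p.Prime] (H : Hyp p m G) {A T : Subgroup G}
    (hA : Cfsg.IsElementaryAbelian p A) (hAc : Nat.card A = p ^ m) (hT : Mn A T) :
    ∃ z, Ex A T z := by
  obtain ⟨he, hZ⟩ := H.extra hA hAc hT
  have hc : CentralTwo T := ⟨Transfer.Extraspecial.comm_mem_center he, he.2⟩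
  obtain ⟨z, hz1, huniv⟩ := (Nat.card_eq_two_iff' (1 : center T)).mp hc.card_center
  have hz1' : (z : T) ≠ 1 := fun h => hz1 (Subtype.ext h)
  have hu : ∀ x ∈ center T, x = 1 ∨ x = z := by
    intro x hx
    by_cases hx1 : x = 1
    · exact Or.inl hx1
    · exact Or.inr (hc.eq_of_ne_one hx z.2 hx1 hz1')
  have lift : ∀ {x : T}, x = 1 ∨ x = z → (x : G) = 1 ∨ (x : G) = ((z : T) : G) := by
    rintro x (rfl | rfl)
    · exact Or.inl rfl
    · exact Or.inr rfl
  refine ⟨((z : T) : G), (z : T).2, fun h => hz1' (Subtype.ext h), ?_, ?_, ?_, ?_, ?_, ?_, ?_⟩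
  · have := hc.sq_eq_one z.2
    rw [pow_two] at this
    exact congrArg Subtype.val this
  · intro a ha
    exact mem_centralizer_iff.1 (hZ ⟨(z : T), z.2, rfl⟩) a ha
  · intro x hx
    exact congrArg Subtype.val (mem_center_iff.1 z.2 ⟨x, hx⟩).symm
  · intro x hx hc'
    refine lift (x := ⟨x, hx⟩) (hu _ (mem_center_iff.2 ?_))
    intro y
    exact Subtype.ext (hc' y y.2)
  · intro x hx y hy
    exact lift (x := ⁅⟨x, hx⟩, ⟨y, hy⟩⁆) (hu _ (hc.comm_mem _ _))
  · intro x hx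
    have h1 := hc.sq_mem ⟨x, hx⟩
    rw [pow_two] at h1
    exact lift (x := ⟨x, hx⟩ * ⟨x, hx⟩) (hu _ h1)
  · exact Transfer.Extraspecial.exists_card_eq Nat.prime_two he

theorem norm_of_gen [Finite G] {A B T U : Subgroup G} {a : G} (hTB : T ≤ centralizer (B : Set G))
    (hAB : A ≤ B ⊔ zpowers a) (hU : U ≤ T) (ha : ∀ u ∈ U, a * u * a⁻¹ ∈ U) :
    A ≤ normalizer (U : Set G) := by
  refine hAB.trans (sup_le ?_ ?_)
  · exact (le_centralizer_iff.1 (hU.trans hTB)).trans (centralizer_le_normalizer _)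
  · rw [zpowers_le]
    exact mem_normalizer_fintype ha

theorem le_sup_zpowers {p : ℕ} [hp : Fact p.Prime] {A B : Subgroup G} (hBA : B ≤ A)
    (hBi : B.relIndex A = p) {a : G} (ha : a ∈ A) (haB : a ∉ B) : A ≤ B ⊔ zpowers a := by
  have h4 : B ⊔ zpowers a ≤ A := sup_le hBA (by rwa [zpowers_le])
  have h5 : B < B ⊔ zpowers a := by
    refine lt_of_le_of_ne le_sup_left fun h6 => haB ?_
    rw [h6]
    exact mem_sup_right (Subgroup.mem_zpowers a)
  have h6 := relIndex_mul_relIndex B (B ⊔ zpowers a) A le_sup_left h4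
  rw [hBi] at h6
  rcases (Nat.dvd_prime hp.out).1 (Dvd.intro_left _ h6) with h8 | h8
  · exact relIndex_eq_one.1 h8
  · exfalso
    rw [h8] at h6
    have h9 : B.relIndex (B ⊔ zpowers a) = 1 :=
      Nat.eq_of_mul_eq_mul_right hp.out.pos (by rw [h6, one_mul])
    exact h5.not_ge (relIndex_eq_one.1 h9)

/-- for `p = 3` the group `T` is the quaternion group -/
theorem quat [Finite G] {A B T : Subgroup G} {z a : G} (hT : Mn A T) (hE : Ex A T z)
    (hTB : T ≤ centralizer (B : Set G)) (hAB : A ≤ B ⊔ zpowers a) (haA : a ∈ A) (ha3 : a ^ 3 = 1)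
    (hco : (Nat.card A).Coprime 2) :
    ∃ x ∈ T, ∃ c, (c = 1 ∨ c = z) ∧ x * (a * x * a⁻¹) * (a * (a * x * a⁻¹) * a⁻¹) = c ∧
      ⁅x, a * x * a⁻¹⁆ = z ∧ x * x = z := by
  obtain ⟨x, hx, hxA⟩ := SetLike.not_le_iff_exists.1 hT.not_le
  obtain ⟨y, hy⟩ : ∃ y, y = a * x * a⁻¹ := ⟨_, rfl⟩
  obtain ⟨w, hw⟩ : ∃ w, w = a * y * a⁻¹ := ⟨_, rfl⟩
  have hyT : y ∈ T := by rw [hy]; exact conj_mem_of_le_normalizer hT.norm haA hx
  have hwT : w ∈ T := by rw [hw]; exact conj_mem_of_le_normalizer hT.norm haA hyT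
  have haw : a * w * a⁻¹ = x := by
    rw [hw, hy]
    have h1 : a⁻¹ * a⁻¹ * a⁻¹ = (a ^ 3)⁻¹ := by rw [pow_succ, pow_two, mul_inv_rev, mul_inv_rev]; group
    calc a * (a * (a * x * a⁻¹) * a⁻¹) * a⁻¹ = a ^ 3 * x * (a⁻¹ * a⁻¹ * a⁻¹) := by
          rw [pow_succ, pow_two]; simp only [mul_assoc]
      _ = x := by rw [h1, ha3, inv_one, one_mul, mul_one]
  have hxz : ¬ (x = 1 ∨ x = z) := by
    rintro (rfl | rfl)
    · exact hxA (one_mem _)
    · exact hxA (mem_centralizer_iff.2 hE.zA)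
  obtain ⟨v, hv⟩ : ∃ v, v = x * y * w := ⟨_, rfl⟩
  have hvT : v ∈ T := by rw [hv]; exact mul_mem (mul_mem hx hyT) hwT
  have hzle : zpowers z ≤ T := by rw [zpowers_le]; exact hE.zT
  have hzz : a * z * a⁻¹ = z := by rw [hE.zA a haA, mul_inv_cancel_right]
  -- `v` is centralised by `A`
  have hva : a * v * a⁻¹ = ⁅x⁻¹, v⁆ * v := by
    have h1 : a * v * a⁻¹ = y * w * x := by
      calc a * v * a⁻¹ = (a * x * a⁻¹) * (a * y * a⁻¹) * (a * w * a⁻¹) := by rw [hv]; group
        _ = y * w * x := by rw [← hy, ← hw, haw]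
    rw [h1, hv, commutatorElement_def]
    group
  have hvA : v ∈ centralizer (A : Set G) := by
    have hle : zpowers v ⊔ zpowers z ≤ T := sup_le (by rwa [zpowers_le]) hzle
    have hinv : ∀ u ∈ zpowers v ⊔ zpowers z, a * u * a⁻¹ ∈ zpowers v ⊔ zpowers z := by
      have h1 : zpowers v ⊔ zpowers z ≤
          (zpowers v ⊔ zpowers z).comap (MulAut.conj a).toMonoidHom := by
        refine sup_le ?_ ?_
        · rw [zpowers_le, mem_comap]
          show a * v * a⁻¹ ∈ _
          rw [hva]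
          refine mul_mem ?_ (mem_sup_left (Subgroup.mem_zpowers v))
          apply mem_sup_right
          rw [hE.mem_zpowers]
          exact hE.comm _ (inv_mem hx) _ hvT
        · rw [zpowers_le, mem_comap]
          show a * z * a⁻¹ ∈ _
          rw [hzz]
          exact mem_sup_right (Subgroup.mem_zpowers z)
      exact fun u hu => h1 hu
    rcases hT.le_or hle (norm_of_gen hTB hAB hle hinv) with h2 | h2
    · exfalso
      -- then `T` is abelian
      apply hxz
      apply hE.cen x hx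
      have h3 : zpowers v ⊔ zpowers z ≤ centralizer ((zpowers v ⊔ zpowers z : Subgroup G) : Set G) := by
        have h4 : ∀ u ∈ T, z * u = u * z := hE.zc
        refine sup_le ?_ ?_
        · rw [le_centralizer_iff]
          refine sup_le ?_ ?_
          · rw [le_centralizer_iff, zpowers_le, mem_centralizer_iff]
            rintro _ ⟨n, rfl⟩
            exact (Commute.zpow_self v n).eq
          · rw [zpowers_le, mem_centralizer_iff]
            intro u hu
            exact (h4 u ((show zpowers v ≤ T by rwa [zpowers_le]) hu)).symm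
        · rw [zpowers_le, mem_centralizer_iff]
          intro u hu
          exact (h4 u (hle hu)).symm
      rw [h2] at h3
      intro y' hy'
      exact mem_centralizer_iff.1 (h3 hx) y' hy'
    · exact h2 (mem_sup_left (Subgroup.mem_zpowers v))
  have hNn : A ≤ normalizer ((zpowers z : Subgroup G) : Set G) := by
    apply le_normalizer_of_conj_mem
    intro a' ha' u hu
    rw [hE.mem_zpowers] at hu ⊢
    rcases hu with rfl | rfl
    · left; group
    · right; rw [hE.zA a' ha', mul_inv_cancel_right]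
  have hTT : ⁅T, T⁆ ≤ zpowers z := by
    rw [commutator_le]
    intro a ha b hb
    rw [hE.mem_zpowers]
    exact hE.comm a ha b hb
  have hmem : ∀ u ∈ T, u ∈ centralizer (A : Set G) → u = 1 ∨ u = z := by
    intro u hu huA
    rw [← hE.mem_zpowers]
    refine hT.mem_of_fixed hco hzle hNn hTT hu ?_
    intro a' ha'
    rw [show ⁅u, a'⁆ = 1 from commutatorElement_eq_one_iff_mul_comm.2
      (mem_centralizer_iff.1 huA a' ha').symm]
    exact one_mem _
  have hvz : v = 1 ∨ v = z := hmem v hvT hvA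
  -- `T` is generated by `x`, `y`, `z`
  have hgen : T = closure {x, y} ⊔ zpowers z := by
    have hle : closure {x, y} ⊔ zpowers z ≤ T := by
      refine sup_le ?_ hzle
      rw [closure_le]
      rintro _ (rfl | rfl)
      · exact hx
      · exact hyT
    have hxm : x ∈ closure {x, y} ⊔ zpowers z := mem_sup_left (subset_closure (Or.inl rfl))
    have hym : y ∈ closure {x, y} ⊔ zpowers z := mem_sup_left (subset_closure (Or.inr rfl))
    have hzm : z ∈ closure {x, y} ⊔ zpowers z := mem_sup_right (Subgroup.mem_zpowers z)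
    have hwm : w ∈ closure {x, y} ⊔ zpowers z := by
      have h1 : w = (x * y)⁻¹ * v := by rw [hv]; group
      rw [h1]
      refine mul_mem (inv_mem (mul_mem hxm hym)) ?_
      rcases hvz with h | h
      · rw [h]; exact one_mem _
      · rw [h]; exact hzm
    have hinv : ∀ u ∈ closure {x, y} ⊔ zpowers z, a * u * a⁻¹ ∈ closure {x, y} ⊔ zpowers z := by
      have h1 : closure {x, y} ⊔ zpowers z ≤
          (closure {x, y} ⊔ zpowers z).comap (MulAut.conj a).toMonoidHom := by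
        refine sup_le ?_ ?_
        · rw [closure_le]
          rintro u (hu | hu)
          · rw [hu]
            show a * x * a⁻¹ ∈ closure {x, y} ⊔ zpowers z
            rw [← hy]; exact hym
          · rw [Set.mem_singleton_iff.1 hu]
            show a * y * a⁻¹ ∈ closure {x, y} ⊔ zpowers z
            rw [← hw]; exact hwm
        · rw [zpowers_le, mem_comap]
          show a * z * a⁻¹ ∈ _
          rw [hzz]
          exact hzm
      exact fun u hu => h1 hu
    rcases hT.le_or hle (norm_of_gen hTB hAB hle hinv) with h2 | h2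
    · exact h2.symm
    · exact absurd (h2 hxm) hxA
  have hxy : ⁅x, y⁆ = z := by
    rcases hE.comm x hx y hyT with h | h
    · exfalso
      apply hxz
      apply hE.cen x hx
      have h1 : T ≤ centralizer ({x} : Set G) := by
        rw [hgen]
        refine sup_le ?_ ?_
        · rw [closure_le]
          rintro _ (rfl | rfl)
          · exact mem_centralizer_singleton_iff.2 rfl
          · exact mem_centralizer_singleton_iff.2 (commutatorElement_eq_one_iff_mul_comm.1 h).symm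
        · rw [zpowers_le]
          exact mem_centralizer_singleton_iff.2 (hE.zc x hx)
      intro u hu
      exact mem_centralizer_singleton_iff.1 (h1 hu)
    · exact h
  refine ⟨x, hx, v, hvz, ?_, ?_, ?_⟩
  · rw [← hy, ← hw, hv]
  · rw [← hy, hxy]
  · rcases hE.sq x hx with h | h
    · exfalso
      have hyy : y * y = 1 := by
        rw [hy]
        calc a * x * a⁻¹ * (a * x * a⁻¹) = a * (x * x) * a⁻¹ := by group
          _ = 1 := by rw [h]; group
      have hww : w * w = 1 := by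
        rw [hw]
        calc a * y * a⁻¹ * (a * y * a⁻¹) = a * (y * y) * a⁻¹ := by group
          _ = 1 := by rw [hyy]; group
      have hvv : v * v = 1 := by
        rcases hvz with h1 | h1
        · rw [h1, one_mul]
        · rw [h1, hE.zz]
      have hvw : v * w = w * v := by
        rcases hvz with h1 | h1
        · rw [h1, one_mul, mul_one]
        · rw [h1]; exact hE.zc w hwT
      have hxi : x⁻¹ = x := inv_eq_of_mul_eq_one_left h
      have hyi : y⁻¹ = y := inv_eq_of_mul_eq_one_left hyy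
      have hwi : w⁻¹ = w := inv_eq_of_mul_eq_one_left hww
      have h2 : x * y = v * w := by
        rw [hv, mul_assoc, hww, mul_one]
      have h3 : ⁅x, y⁆ = 1 := by
        rw [commutatorElement_def, hxi, hyi, mul_assoc (x * y) x y, h2]
        calc v * w * (v * w) = v * (w * v) * w := by group
          _ = (v * v) * (w * w) := by rw [← hvw]; group
          _ = 1 := by rw [hvv, hww, one_mul]
      rw [h3] at hxy
      exact hE.z1 hxy.symm
    · exact h

end Cfsg.Agent.H810.KM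
end

-- part: H810/KMMain
section
/-!
# The theorem of Klinger and Mason (helper810)

A group of characteristic 2-type which is of local characteristic `p` (`p` odd) has 2-local `p`-rank at
most two.
-/

set_option autoImplicit false

namespace Cfsg.Agent.H810.KM

open Subgroup
open scoped commutatorElement
open Cfsg.Agent.SignalizersComponents.GoldschmidtGen (le_normalizer_of_conj_mem
  conj_mem_of_le_normalizer)
open Cfsg.Agent.Transfer.ExtraspecialTwo (CentralTwo)

variable {G : Type*} [Group G]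

/-- two commuting extraspecial groups, centralised by the hyperplanes `B₁`, `B₂` -/
structure Pair (A T₁ T₂ B₁ B₂ : Subgroup G) (z : G) (p m : ℕ) : Prop where
  hA : Cfsg.IsElementaryAbelian p A
  hAc : Nat.card A = p ^ m
  B1 : B₁ ≤ A
  B2 : B₂ ≤ A
  B1i : B₁.relIndex A = p
  B2i : B₂.relIndex A = p
  M1 : Mn A T₁
  M2 : Mn A T₂
  E1 : Ex A T₁ z
  E2 : Ex A T₂ z
  TB1 : T₁ ≤ centralizer (B₁ : Set G)
  TB2 : T₂ ≤ centralizer (B₂ : Set G)
  TT : T₂ ≤ centralizer (T₁ : Set G)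

theorem Pair.exists_D [Finite G] {p m : ℕ} [hp : Fact p.Prime] {A T₁ T₂ B₁ B₂ : Subgroup G} {z : G}
    (H : Hyp p m G) (P : Pair A T₁ T₂ B₁ B₂ z p m) :
    ∃ j, Nat.card (B₁ ⊓ B₂ : Subgroup G) = p ^ j ∧ m - 2 ≤ j := by
  have h3 := H.three
  obtain ⟨n, rfl⟩ : ∃ n, m = n + 2 := ⟨m - 2, by omega⟩
  obtain ⟨j, h1, h2⟩ := card_inf_hyperplane P.B1 P.B1i P.B2i P.hAc (elab_pgroup P.hA)
  exact ⟨j, h1, by omega⟩

/-! ### `p ≠ 3` -/

theorem two_le_width [Finite G] {p : ℕ} [hp : Fact p.Prime] (hp2 : p ≠ 2) (hp3 : p ≠ 3)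
    {A T : Subgroup G} {z : G} (hA : Cfsg.IsElementaryAbelian p A) (hT : Mn A T) (hE : Ex A T z) :
    ∃ n, 2 ≤ n ∧ Nat.card T = 2 ^ (2 * n + 1) := by
  obtain ⟨n, hn, hc⟩ := hE.card
  refine ⟨n, ?_, hc⟩
  by_contra hlt
  have hn1 : n = 1 := by omega
  subst hn1
  obtain ⟨x, hx, hxA⟩ := SetLike.not_le_iff_exists.1 hT.not_le
  rw [mem_centralizer_iff] at hxA
  push Not at hxA
  obtain ⟨a, ha, hax⟩ := hxA
  have h1 := J3.Fix.card_subgroup_modEq hp.out T a (hA.2 a ha)
    (fun q hq => conj_mem_of_le_normalizer hT.norm ha hq)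
  have hle : T ⊓ centralizer ({a} : Set G) < T := by
    refine lt_of_le_of_ne inf_le_left fun h => hax ?_
    have h2 : x ∈ T ⊓ centralizer ({a} : Set G) := by rw [h]; exact hx
    exact (mem_centralizer_singleton_iff.1 h2.2).symm
  obtain ⟨k, hk⟩ := IsPGroup.iff_card.1 (hT.two.to_le (inf_le_left : T ⊓ centralizer ({a} : Set G) ≤ T))
  have h8 : Nat.card T = 8 := by rw [hc]; norm_num
  have hlt2 : Nat.card (T ⊓ centralizer ({a} : Set G) : Subgroup G) < Nat.card T := by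
    by_contra hge
    exact hle.ne (eq_of_le_of_card_ge hle.le (not_lt.1 hge))
  have hzin : zpowers z ≤ T ⊓ centralizer ({a} : Set G) := by
    rw [zpowers_le]
    exact ⟨hE.zT, mem_centralizer_singleton_iff.2 (hE.zA a ha).symm⟩
  have hge2 : 2 ∣ Nat.card (T ⊓ centralizer ({a} : Set G) : Subgroup G) := by
    have := card_dvd_of_le hzin
    rwa [Nat.card_zpowers, hE.order] at this
  rw [h8] at h1 hlt2
  rw [hk] at h1 hlt2 hge2
  have hk3 : k < 3 := by
    by_contra hcon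
    have : 2 ^ 3 ≤ 2 ^ k := Nat.pow_le_pow_right (by norm_num) (by omega)
    omega
  have hp5 : 5 ≤ p := by
    by_contra hcon
    have := hp.out.two_le
    interval_cases p
    · exact hp2 rfl
    · exact hp3 rfl
    · exact absurd hp.out (by norm_num)
  have h9 : (p : ℤ) ∣ (2 ^ k : ℕ) - (8 : ℕ) := (Nat.modEq_iff_dvd).1 h1
  interval_cases k
  · norm_num at hge2
  · have h10 : (p : ℤ) ∣ 6 := by
      have : ((2 ^ 1 : ℕ) : ℤ) - ((8 : ℕ) : ℤ) = -6 := by norm_num
      rw [this, dvd_neg] at h9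
      exact h9
    have h11 : p ∣ 6 := by exact_mod_cast h10
    have h12 : p ∣ 2 * 3 := h11
    rcases (hp.out.dvd_mul).1 h12 with h | h
    · have := Nat.le_of_dvd (by norm_num) h; omega
    · have := Nat.le_of_dvd (by norm_num) h; omega
  · have h10 : (p : ℤ) ∣ 4 := by
      have : ((2 ^ 2 : ℕ) : ℤ) - ((8 : ℕ) : ℤ) = -4 := by norm_num
      rw [this, dvd_neg] at h9
      exact h9
    have h11 : p ∣ 4 := by exact_mod_cast h10
    have := Nat.le_of_dvd (by norm_num) h11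
    omega

theorem Pair.notThree [Finite G] {p m : ℕ} [hp : Fact p.Prime] {A T₁ T₂ B₁ B₂ : Subgroup G} {z : G}
    (H : Hyp p m G) (P : Pair A T₁ T₂ B₁ B₂ z p m) (hp3 : p ≠ 3) : False := by
  obtain ⟨n₁, hn₁, hc₁⟩ := two_le_width H.odd hp3 P.hA P.M1 P.E1
  obtain ⟨n₂, hn₂, hc₂⟩ := two_le_width H.odd hp3 P.hA P.M2 P.E2
  obtain ⟨j, hj, hjm⟩ := P.exists_D H
  have hm := H.three
  have hcomm : ∀ a ∈ T₁, ∀ b ∈ T₂, a * b = b * a := fun a ha b hb =>
    mem_centralizer_iff.1 (P.TT hb) a ha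
  -- the central product
  have hinf : T₁ ⊓ T₂ = zpowers z := by
    apply le_antisymm
    · intro x hx
      rw [P.E1.mem_zpowers]
      exact P.E1.cen x hx.1 fun y hy => hcomm y hy x hx.2
    · rw [zpowers_le]
      exact ⟨P.E1.zT, P.E2.zT⟩
  have hcard : Nat.card (T₁ ⊔ T₂ : Subgroup G) = 2 ^ (2 * (n₁ + n₂) + 1) := by
    have h1 : Nat.card (T₁ ⊔ T₂ : Subgroup G) * Nat.card (T₁ ⊓ T₂ : Subgroup G) =
        Nat.card T₁ * Nat.card T₂ := by
      rw [← Cfsg.Agent.Lib.ProductSet.card_mul_card_inf T₁ T₂,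
        ← Subgroup.coe_mul_of_right_le_normalizer_left T₁ T₂
          (P.TT.trans (centralizer_le_normalizer _))]
      rfl
    rw [hinf, Nat.card_zpowers, P.E1.order, hc₁, hc₂] at h1
    apply Nat.eq_of_mul_eq_mul_right (show 0 < 2 by norm_num)
    rw [h1]
    ring
  have hzP : z ∈ T₁ ⊔ T₂ := mem_sup_left P.E1.zT
  have hzc : ∀ x ∈ T₁ ⊔ T₂, z * x = x * z := by
    intro x hx
    obtain ⟨a, ha, b, hb, rfl⟩ := mem_sup_comm hcomm hx
    calc z * (a * b) = (z * a) * b := by group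
      _ = a * (z * b) := by rw [P.E1.zc a ha]; group
      _ = a * b * z := by rw [P.E2.zc b hb]; group
  have hcz : ∀ x ∈ T₁ ⊔ T₂, ∀ y ∈ T₁ ⊔ T₂, ⁅x, y⁆ = 1 ∨ ⁅x, y⁆ = z := by
    intro x hx y hy
    obtain ⟨a, ha, b, hb, rfl⟩ := mem_sup_comm hcomm hx
    obtain ⟨c, hc, d, hd, rfl⟩ := mem_sup_comm hcomm hy
    have h1 : ⁅a * b, c * d⁆ = ⁅a, c⁆ * ⁅b, d⁆ := by
      rw [commutatorElement_def, commutatorElement_def, commutatorElement_def]
      have e1 : Commute b c := (hcomm c hc b hb).symm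
      have e2 : Commute b a⁻¹ := (hcomm a⁻¹ (inv_mem ha) b hb).symm
      have e3 : Commute d a⁻¹ := (hcomm a⁻¹ (inv_mem ha) d hd).symm
      have e4 : Commute (b * d * b⁻¹ * d⁻¹) c⁻¹ :=
        (hcomm c⁻¹ (inv_mem hc) _ (mul_mem (mul_mem (mul_mem hb hd) (inv_mem hb)) (inv_mem hd))).symm
      have e5 : Commute (b * d * b⁻¹) a⁻¹ :=
        (hcomm a⁻¹ (inv_mem ha) _ (mul_mem (mul_mem hb hd) (inv_mem hb))).symm
      calc a * b * (c * d) * (a * b)⁻¹ * (c * d)⁻¹
          = a * (b * c) * d * b⁻¹ * a⁻¹ * d⁻¹ * c⁻¹ := by group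
        _ = a * c * ((b * d * b⁻¹) * a⁻¹) * d⁻¹ * c⁻¹ := by rw [e1.eq]; group
        _ = a * c * a⁻¹ * ((b * d * b⁻¹ * d⁻¹) * c⁻¹) := by rw [e5.eq]; group
        _ = a * c * a⁻¹ * c⁻¹ * (b * d * b⁻¹ * d⁻¹) := by rw [e4.eq]; group
    rw [h1]
    rcases P.E1.comm a ha c hc with h2 | h2 <;> rcases P.E2.comm b hb d hd with h3 | h3 <;>
      rw [h2, h3]
    · left; rw [one_mul]
    · right; rw [one_mul]
    · right; rw [mul_one]
    · left; exact P.E1.zz
  have hCT : CentralTwo ↥(T₁ ⊔ T₂) := by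
    have hcen : ∀ x : ↥(T₁ ⊔ T₂), x ∈ center ↥(T₁ ⊔ T₂) ↔ (x : G) = 1 ∨ (x : G) = z := by
      rintro ⟨x, hx⟩
      constructor
      · intro hxc
        rw [mem_center_iff] at hxc
        obtain ⟨a, ha, b, hb, hab⟩ := mem_sup_comm hcomm hx
        have ha' : a = 1 ∨ a = z := by
          apply P.E1.cen a ha
          intro y hy
          have h1 : y * x = x * y := congrArg Subtype.val (hxc ⟨y, mem_sup_left hy⟩)
          rw [hab] at h1
          have h2 : y * a * b = a * y * b := by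
            rw [mul_assoc, h1, mul_assoc, ← hcomm y hy b hb, mul_assoc]
          exact mul_right_cancel h2
        have hb' : b = 1 ∨ b = z := by
          apply P.E2.cen b hb
          intro y hy
          have h1 : y * x = x * y := congrArg Subtype.val (hxc ⟨y, mem_sup_right hy⟩)
          rw [hab] at h1
          have h2 : a * (y * b) = a * (b * y) := by
            rw [← mul_assoc, hcomm a ha y hy, mul_assoc, h1, mul_assoc]
          exact mul_left_cancel h2
        show x = 1 ∨ x = z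
        rw [hab]
        rcases ha' with rfl | rfl <;> rcases hb' with rfl | rfl
        · left; rw [one_mul]
        · right; rw [one_mul]
        · right; rw [mul_one]
        · left; exact P.E1.zz
      · rintro (h | h)
        · have : (⟨x, hx⟩ : ↥(T₁ ⊔ T₂)) = 1 := Subtype.ext h
          rw [this]; exact one_mem _
        · rw [mem_center_iff]
          intro y
          refine Subtype.ext ?_
          show (y : G) * x = x * y
          rw [show x = z from h]
          exact (hzc y y.2).symm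
    refine ⟨fun a b => (hcen _).2 (hcz a a.2 b b.2), ?_⟩
    rw [Nat.card_eq_two_iff' (1 : center ↥(T₁ ⊔ T₂))]
    refine ⟨⟨⟨z, hzP⟩, (hcen _).2 (Or.inr rfl)⟩, ?_, ?_⟩
    · intro h
      exact P.E1.z1 (congrArg Subtype.val (congrArg Subtype.val h))
    · rintro ⟨x, hx⟩ hne
      rcases (hcen x).1 hx with h | h
      · exact absurd (Subtype.ext (Subtype.ext h)) hne
      · exact Subtype.ext (Subtype.ext h)
  have hrank : ¬ Cfsg.PRankLE 2 3 ↥(T₁ ⊔ T₂) := by
    rcases H442.ExtraRank.rank_cases (n₁ + n₂) hCT hcard with ⟨-, h⟩ | h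
    · rw [h]; omega
    · rw [h]; omega
  rw [Cfsg.PRankLE] at hrank
  push Not at hrank
  obtain ⟨E, hEc, hE2, hE8⟩ := hrank
  have hel : Cfsg.IsElementaryAbelian 2 (E.map (T₁ ⊔ T₂).subtype) := by
    refine elab_of ?_ ?_
    · rintro _ ⟨a, ha, rfl⟩ _ ⟨b, hb, rfl⟩
      have : (⟨a, ha⟩ : E) * ⟨b, hb⟩ = ⟨b, hb⟩ * ⟨a, ha⟩ := hEc.is_comm.comm _ _
      exact congrArg (fun t : E => ((t : ↥(T₁ ⊔ T₂)) : G)) this
    · rintro _ ⟨a, ha, rfl⟩
      exact congrArg (fun t : ↥(T₁ ⊔ T₂) => (t : G)) (hE2 a ha)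
  have hcE : Nat.card (E.map (T₁ ⊔ T₂).subtype) = Nat.card E :=
    (Nat.card_congr (E.equivMapOfInjective _ (T₁ ⊔ T₂).subtype_injective).toEquiv).symm
  have h2 : Fact (Nat.Prime 2) := ⟨Nat.prime_two⟩
  obtain ⟨e, he⟩ := IsPGroup.iff_card.1 (elab_pgroup hel)
  have he4 : 4 ≤ e := by
    by_contra hcon
    have h3 : 2 ^ e ≤ 2 ^ 3 := Nat.pow_le_pow_right (by norm_num) (by omega)
    rw [← he, hcE] at h3
    omega
  have hED : E.map (T₁ ⊔ T₂).subtype ≤ centralizer ((B₁ ⊓ B₂ : Subgroup G) : Set G) := by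
    refine (map_subtype_le E).trans (sup_le ?_ ?_)
    · exact P.TB1.trans (centralizer_le inf_le_left)
    · exact P.TB2.trans (centralizer_le inf_le_right)
  have := H.le (r := e - 1) (k := j) (D := B₁ ⊓ B₂) (elab_le P.hA (inf_le_left.trans P.B1)) hj
    (by omega) hel (by rw [he]; congr 1; omega) hED
  omega

/-! ### `p = 3` -/

theorem exists_not_mem_union {A B C : Subgroup G} (hB : ¬ A ≤ B) (hC : ¬ A ≤ C) :
    ∃ a ∈ A, a ∉ B ∧ a ∉ C := by
  obtain ⟨b, hb, hbB⟩ := SetLike.not_le_iff_exists.1 hB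
  obtain ⟨c, hc, hcC⟩ := SetLike.not_le_iff_exists.1 hC
  by_cases h1 : b ∈ C
  · by_cases h2 : c ∈ B
    · exact ⟨b * c, mul_mem hb hc, fun h => hbB ((B.mul_mem_cancel_right h2).1 h),
        fun h => hcC ((C.mul_mem_cancel_left h1).1 h)⟩
    · exact ⟨c, hc, h2, hcC⟩
  · exact ⟨b, hb, hbB, h1⟩

/-- the four-group `⟨t, s⟩` -/
structure Four (T₁ V : Subgroup G) (z a t s x y : G) : Prop where
  el : Cfsg.IsElementaryAbelian 2 V
  gen : V = zpowers t ⊔ zpowers s
  conjt : a * t * a⁻¹ = s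
  conjs : a * s * a⁻¹ = t * s
  hx : x ∈ T₁
  hy : y ∈ T₁
  xt : x * t * x⁻¹ = t
  xs : x * s * x⁻¹ = z * s
  yt : y * t * y⁻¹ = z * t
  ys : y * s * y⁻¹ = s
  zV : z ∉ V
  ts : t ≠ s

theorem Pair.exists_four [Finite G] {m : ℕ} {A T₁ T₂ B₁ B₂ : Subgroup G} {z : G}
    (H : Hyp 3 m G) (P : Pair A T₁ T₂ B₁ B₂ z 3 m) {a : G} (ha : a ∈ A) (ha1 : a ∉ B₁) (ha2 : a ∉ B₂) :
    ∃ V t s x y, V ≤ T₁ ⊔ T₂ ∧ Four T₁ V z a t s x y := by
  have h3 : Fact (Nat.Prime 3) := ⟨Nat.prime_three⟩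
  have hco := H.coprime P.hA
  have hcomm : ∀ a ∈ T₁, ∀ b ∈ T₂, Commute a b := fun a ha b hb =>
    mem_centralizer_iff.1 (P.TT hb) a ha
  obtain ⟨x₁, hx₁, c₁, hc₁, hp₁, hk₁, hs₁⟩ := quat P.M1 P.E1 P.TB1 (le_sup_zpowers P.B1 P.B1i ha ha1) ha
    (P.hA.2 a ha) hco
  obtain ⟨x₂, hx₂, c₂, hc₂, hp₂, hk₂, hs₂⟩ := quat P.M2 P.E2 P.TB2 (le_sup_zpowers P.B2 P.B2i ha ha2) ha
    (P.hA.2 a ha) hco
  obtain ⟨y₁, hy₁⟩ : ∃ y, y = a * x₁ * a⁻¹ := ⟨_, rfl⟩
  obtain ⟨w₁, hw₁⟩ : ∃ w, w = a * y₁ * a⁻¹ := ⟨_, rfl⟩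
  obtain ⟨y₂, hy₂⟩ : ∃ y, y = a * x₂ * a⁻¹ := ⟨_, rfl⟩
  obtain ⟨w₂, hw₂⟩ : ∃ w, w = a * y₂ * a⁻¹ := ⟨_, rfl⟩
  rw [← hy₁] at hp₁ hk₁
  rw [← hy₂] at hp₂ hk₂
  rw [← hw₁] at hp₁
  rw [← hw₂] at hp₂
  have hy₁T : y₁ ∈ T₁ := by rw [hy₁]; exact conj_mem_of_le_normalizer P.M1.norm ha hx₁
  have hw₁T : w₁ ∈ T₁ := by rw [hw₁]; exact conj_mem_of_le_normalizer P.M1.norm ha hy₁T
  have hy₂T : y₂ ∈ T₂ := by rw [hy₂]; exact conj_mem_of_le_normalizer P.M2.norm ha hx₂
  have hw₂T : w₂ ∈ T₂ := by rw [hw₂]; exact conj_mem_of_le_normalizer P.M2.norm ha hy₂T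
  have hzz := P.E1.zz
  have hzi : z⁻¹ = z := inv_eq_of_mul_eq_one_left hzz
  have hz1 : ∀ u ∈ T₁, Commute z u := P.E1.zc
  have hz2 : ∀ u ∈ T₂, Commute z u := P.E2.zc
  have haz : a * z * a⁻¹ = z := by rw [P.E1.zA a ha, mul_inv_cancel_right]
  -- the sign
  obtain ⟨δ, hδ, hδδ, hδc⟩ : ∃ δ, (δ = 1 ∨ δ = z) ∧ δ * δ = 1 ∧ δ * (c₁ * c₂) = 1 := by
    rcases hc₁ with h1 | h1 <;> rcases hc₂ with h2 | h2 <;> rw [h1, h2]
    · exact ⟨1, Or.inl rfl, one_mul 1, by rw [one_mul, one_mul]⟩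
    · exact ⟨z, Or.inr rfl, hzz, by rw [one_mul, hzz]⟩
    · exact ⟨z, Or.inr rfl, hzz, by rw [mul_one, hzz]⟩
    · exact ⟨1, Or.inl rfl, one_mul 1, by rw [one_mul, hzz]⟩
  have hδa : a * δ * a⁻¹ = δ := by
    rcases hδ with h | h <;> rw [h]
    · group
    · exact haz
  have hδ1 : ∀ u ∈ T₁, Commute δ u := by
    intro u hu
    rcases hδ with h | h <;> rw [h]
    · exact Commute.one_left u
    · exact hz1 u hu
  have hδ2 : ∀ u ∈ T₂, Commute δ u := by
    intro u hu
    rcases hδ with h | h <;> rw [h]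
    · exact Commute.one_left u
    · exact hz2 u hu
  have hδz : Commute δ z := by
    rcases hδ with h | h <;> rw [h]
    · exact Commute.one_left z
  have hδT : δ ∈ T₁ := by
    rcases hδ with h | h <;> rw [h]
    · exact one_mem _
    · exact P.E1.zT
  obtain ⟨t, ht⟩ : ∃ t, t = δ * (x₁ * x₂) := ⟨_, rfl⟩
  obtain ⟨s, hs⟩ : ∃ s, s = δ * (y₁ * y₂) := ⟨_, rfl⟩
  have hsq : ∀ u₁ ∈ T₁, ∀ u₂ ∈ T₂, u₁ * u₁ = z → u₂ * u₂ = z → (δ * (u₁ * u₂)) * (δ * (u₁ * u₂)) = 1 := by
    intro u₁ h1 u₂ h2 e1 e2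
    have h4 : Commute (u₁ * u₂) δ := ((hδ1 u₁ h1).mul_right (hδ2 u₂ h2)).symm
    calc (δ * (u₁ * u₂)) * (δ * (u₁ * u₂)) = δ * ((u₁ * u₂) * δ) * (u₁ * u₂) := by group
      _ = (δ * δ) * (u₁ * (u₂ * u₁) * u₂) := by rw [h4.eq]; group
      _ = (u₁ * u₁) * (u₂ * u₂) := by rw [hδδ, ← (hcomm u₁ h1 u₂ h2).eq]; group
      _ = 1 := by rw [e1, e2, hzz]
  have hyy₁ : y₁ * y₁ = z := by
    rw [hy₁]
    calc a * x₁ * a⁻¹ * (a * x₁ * a⁻¹) = a * (x₁ * x₁) * a⁻¹ := by group
      _ = z := by rw [hs₁, haz]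
  have hyy₂ : y₂ * y₂ = z := by
    rw [hy₂]
    calc a * x₂ * a⁻¹ * (a * x₂ * a⁻¹) = a * (x₂ * x₂) * a⁻¹ := by group
      _ = z := by rw [hs₂, haz]
  have htt : t * t = 1 := by rw [ht]; exact hsq x₁ hx₁ x₂ hx₂ hs₁ hs₂
  have hss : s * s = 1 := by rw [hs]; exact hsq y₁ hy₁T y₂ hy₂T hyy₁ hyy₂
  have hat : a * t * a⁻¹ = s := by
    rw [ht, hs, hy₁, hy₂]
    calc a * (δ * (x₁ * x₂)) * a⁻¹ = (a * δ * a⁻¹) * (a * x₁ * a⁻¹ * (a * x₂ * a⁻¹)) := by group
      _ = δ * (a * x₁ * a⁻¹ * (a * x₂ * a⁻¹)) := by rw [hδa]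
  have hau : a * s * a⁻¹ = δ * (w₁ * w₂) := by
    rw [hs, hw₁, hw₂]
    calc a * (δ * (y₁ * y₂)) * a⁻¹ = (a * δ * a⁻¹) * (a * y₁ * a⁻¹ * (a * y₂ * a⁻¹)) := by group
      _ = δ * (a * y₁ * a⁻¹ * (a * y₂ * a⁻¹)) := by rw [hδa]
  -- conjugation in `T₁`
  have hxy : x₁ * y₁ * x₁⁻¹ = z * y₁ := by
    have h := hk₁
    rw [commutatorElement_def] at h
    rw [← h]; group
  have hyx : y₁ * x₁ * y₁⁻¹ = z * x₁ := by
    have h : ⁅y₁, x₁⁆ = z := by rw [← commutatorElement_inv, hk₁, hzi]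
    rw [commutatorElement_def] at h
    rw [← h]; group
  have hxy2 : x₂ * y₂ * x₂⁻¹ = z * y₂ := by
    have h := hk₂
    rw [commutatorElement_def] at h
    rw [← h]; group
  have hxt : x₁ * t * x₁⁻¹ = t := by
    have h1 : Commute x₁ t := by
      rw [ht]
      exact (hδ1 x₁ hx₁).symm.mul_right ((Commute.refl x₁).mul_right (hcomm x₁ hx₁ x₂ hx₂))
    rw [h1.eq, mul_inv_cancel_right]
  have hys : y₁ * s * y₁⁻¹ = s := by
    have h1 : Commute y₁ s := by
      rw [hs]
      exact (hδ1 y₁ hy₁T).symm.mul_right ((Commute.refl y₁).mul_right (hcomm y₁ hy₁T y₂ hy₂T))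
    rw [h1.eq, mul_inv_cancel_right]
  have hxs : x₁ * s * x₁⁻¹ = z * s := by
    have e1 : x₁ * δ * x₁⁻¹ = δ := by rw [← (hδ1 x₁ hx₁).eq, mul_inv_cancel_right]
    have e2 : x₁ * y₂ * x₁⁻¹ = y₂ := by rw [(hcomm x₁ hx₁ y₂ hy₂T).eq, mul_inv_cancel_right]
    rw [hs]
    calc x₁ * (δ * (y₁ * y₂)) * x₁⁻¹ = (x₁ * δ * x₁⁻¹) * ((x₁ * y₁ * x₁⁻¹) * (x₁ * y₂ * x₁⁻¹)) := by group
      _ = (δ * z) * (y₁ * y₂) := by rw [e1, hxy, e2]; group
      _ = z * (δ * (y₁ * y₂)) := by rw [hδz.eq]; group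
  have hyt : y₁ * t * y₁⁻¹ = z * t := by
    have e1 : y₁ * δ * y₁⁻¹ = δ := by rw [← (hδ1 y₁ hy₁T).eq, mul_inv_cancel_right]
    have e2 : y₁ * x₂ * y₁⁻¹ = x₂ := by rw [(hcomm y₁ hy₁T x₂ hx₂).eq, mul_inv_cancel_right]
    rw [ht]
    calc y₁ * (δ * (x₁ * x₂)) * y₁⁻¹ = (y₁ * δ * y₁⁻¹) * ((y₁ * x₁ * y₁⁻¹) * (y₁ * x₂ * y₁⁻¹)) := by group
      _ = (δ * z) * (x₁ * x₂) := by rw [e1, hyx, e2]; group
      _ = z * (δ * (x₁ * x₂)) := by rw [hδz.eq]; group
  have hts : Commute t s := by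
    -- `x₂ x₁` conjugates `s` to `z z s`
    have e1 : x₂ * δ * x₂⁻¹ = δ := by rw [← (hδ2 x₂ hx₂).eq, mul_inv_cancel_right]
    have e2 : x₂ * y₁ * x₂⁻¹ = y₁ := by
      rw [← (hcomm y₁ hy₁T x₂ hx₂).eq, mul_inv_cancel_right]
    have e3 : x₂ * s * x₂⁻¹ = z * s := by
      rw [hs]
      calc x₂ * (δ * (y₁ * y₂)) * x₂⁻¹ = (x₂ * δ * x₂⁻¹) * ((x₂ * y₁ * x₂⁻¹) * (x₂ * y₂ * x₂⁻¹)) := by group
        _ = δ * (y₁ * z) * y₂ := by rw [e1, e2, hxy2]; group
        _ = (δ * z) * (y₁ * y₂) := by rw [← (hz1 y₁ hy₁T).eq]; group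
        _ = z * (δ * (y₁ * y₂)) := by rw [hδz.eq]; group
    have e4 : x₁ * z * x₁⁻¹ = z := by rw [← (hz1 x₁ hx₁).eq, mul_inv_cancel_right]
    have e5 : Commute δ s := by
      rw [hs]
      exact (Commute.refl δ).mul_right ((hδ1 y₁ hy₁T).mul_right (hδ2 y₂ hy₂T))
    have e6 : t * s * t⁻¹ = s := by
      rw [ht]
      calc δ * (x₁ * x₂) * s * (δ * (x₁ * x₂))⁻¹ = δ * (x₁ * (x₂ * s * x₂⁻¹) * x₁⁻¹) * δ⁻¹ := by group
        _ = δ * ((x₁ * z * x₁⁻¹) * (x₁ * s * x₁⁻¹)) * δ⁻¹ := by rw [e3]; group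
        _ = δ * ((z * z) * s) * δ⁻¹ := by rw [e4, hxs]; group
        _ = s := by rw [hzz, one_mul, e5.eq, mul_inv_cancel_right]
    exact mul_inv_eq_iff_eq_mul.1 e6
  have has : a * s * a⁻¹ = t * s := by
    rw [hau]
    -- `t s u = 1`
    have e1 : w₁ = (x₁ * y₁)⁻¹ * c₁ := by rw [← hp₁]; group
    have e2 : w₂ = (x₂ * y₂)⁻¹ * c₂ := by rw [← hp₂]; group
    have hc1z : ∀ u ∈ T₂, Commute c₁ u := by
      intro u hu
      rcases hc₁ with h | h <;> rw [h]
      · exact Commute.one_left u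
      · exact hz2 u hu
    have e3 : t * s * (δ * (w₁ * w₂)) = 1 := by
      have f1 : t * s = (x₁ * y₁) * (x₂ * y₂) := by
        rw [ht, hs]
        have g1 : Commute (x₁ * x₂) δ := ((hδ1 x₁ hx₁).mul_right (hδ2 x₂ hx₂)).symm
        calc δ * (x₁ * x₂) * (δ * (y₁ * y₂)) = δ * ((x₁ * x₂) * δ) * (y₁ * y₂) := by group
          _ = (δ * δ) * (x₁ * (x₂ * y₁) * y₂) := by rw [g1.eq]; group
          _ = (x₁ * y₁) * (x₂ * y₂) := by rw [hδδ, ← (hcomm y₁ hy₁T x₂ hx₂).eq]; group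
      have f2 : Commute (x₁ * y₁) (x₂ * y₂) :=
        hcomm _ (mul_mem hx₁ hy₁T) _ (mul_mem hx₂ hy₂T)
      have f3 : Commute c₁ (x₂ * y₂)⁻¹ := hc1z _ (inv_mem (mul_mem hx₂ hy₂T))
      have f4 : Commute ((x₁ * y₁) * (x₂ * y₂)) δ :=
        ((hδ1 _ (mul_mem hx₁ hy₁T)).mul_right (hδ2 _ (mul_mem hx₂ hy₂T))).symm
      rw [f1, e1, e2]
      calc (x₁ * y₁) * (x₂ * y₂) * (δ * ((x₁ * y₁)⁻¹ * c₁ * ((x₂ * y₂)⁻¹ * c₂)))
          = (((x₁ * y₁) * (x₂ * y₂)) * δ) * (x₁ * y₁)⁻¹ * (c₁ * (x₂ * y₂)⁻¹) * c₂ := by group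
        _ = δ * ((x₁ * y₁) * (x₂ * y₂)) * (x₁ * y₁)⁻¹ * ((x₂ * y₂)⁻¹ * c₁) * c₂ := by
            rw [f4.eq, f3.eq]
        _ = δ * (c₁ * c₂) := by rw [f2.eq]; group
        _ = 1 := hδc
    have e4 : (t * s) * (t * s) = 1 := by
      calc (t * s) * (t * s) = t * (s * t) * s := by group
        _ = (t * t) * (s * s) := by rw [← hts.eq]; group
        _ = 1 := by rw [htt, hss, one_mul]
    exact mul_left_cancel (e3.trans e4.symm)
  obtain ⟨V, hV⟩ : ∃ V, V = zpowers t ⊔ zpowers s := ⟨_, rfl⟩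
  have htT : t ∈ T₁ ⊔ T₂ := by
    rw [ht]
    exact mul_mem (mem_sup_left hδT) (mul_mem (mem_sup_left hx₁) (mem_sup_right hx₂))
  have hsT : s ∈ T₁ ⊔ T₂ := by
    rw [hs]
    exact mul_mem (mem_sup_left hδT) (mul_mem (mem_sup_left hy₁T) (mem_sup_right hy₂T))
  have hne : t ≠ s := by
    rintro h
    rw [h, hxs] at hxt
    exact P.E1.z1 (by simpa using hxt)
  refine ⟨V, t, s, x₁, y₁, ?_, ?_⟩
  · rw [hV]
    exact sup_le (by rwa [zpowers_le]) (by rwa [zpowers_le])
  · refine ⟨?_, hV, hat, has, hx₁, hy₁T, hxt, hxs, hyt, hys, ?_, hne⟩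
    · rw [hV]
      refine elab_sup (elab_zpowers (by rw [pow_two]; exact htt))
        (elab_zpowers (by rw [pow_two]; exact hss)) ?_
      rintro _ ⟨i, rfl⟩ _ ⟨j, rfl⟩
      exact (hts.zpow_zpow i j).eq
    · intro hzV
      rw [hV] at hzV
      obtain ⟨_, ⟨i, rfl⟩, _, ⟨j, rfl⟩, hij⟩ := mem_sup_comm (by
        rintro _ ⟨i, rfl⟩ _ ⟨j, rfl⟩
        exact (hts.zpow_zpow i j).eq) hzV
      have hpt : ∀ i : ℤ, t ^ i = 1 ∨ t ^ i = t := by
        intro i
        rcases Int.even_or_odd' i with ⟨k, rfl | rfl⟩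
        · left; rw [zpow_mul, zpow_two, htt, one_zpow]
        · right; rw [zpow_add, zpow_mul, zpow_two, htt, one_zpow, one_mul, zpow_one]
      have hps : ∀ i : ℤ, s ^ i = 1 ∨ s ^ i = s := by
        intro i
        rcases Int.even_or_odd' i with ⟨k, rfl | rfl⟩
        · left; rw [zpow_mul, zpow_two, hss, one_zpow]
        · right; rw [zpow_add, zpow_mul, zpow_two, hss, one_zpow, one_mul, zpow_one]
      have hxz : x₁ * z * x₁⁻¹ = z := by rw [← (hz1 x₁ hx₁).eq, mul_inv_cancel_right]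
      have hyz : y₁ * z * y₁⁻¹ = z := by rw [← (hz1 y₁ hy₁T).eq, mul_inv_cancel_right]
      rcases hpt i with h1 | h1 <;> rcases hps j with h2 | h2 <;>
        rw [show (fun x => t ^ x) i = t ^ i from rfl, show (fun x => s ^ x) j = s ^ j from rfl, h1, h2] at hij
      · exact P.E1.z1 (by rw [hij, one_mul])
      · rw [one_mul] at hij
        have h5 : z * s = s := by rw [← hxs, ← hij, hxz]
        exact P.E1.z1 (by simpa using h5)
      · rw [mul_one] at hij
        have h5 : z * t = t := by rw [← hyt, ← hij, hyz]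
        exact P.E1.z1 (by simpa using h5)
      · have h5 : x₁ * (t * s) * x₁⁻¹ = z * (t * s) := by
          calc x₁ * (t * s) * x₁⁻¹ = (x₁ * t * x₁⁻¹) * (x₁ * s * x₁⁻¹) := by group
            _ = t * z * s := by rw [hxt, hxs]; group
            _ = z * (t * s) := by
              have : Commute t z := by
                rw [ht]
                exact (hδz.mul_left ((hz1 x₁ hx₁).symm.mul_left (hz2 x₂ hx₂).symm))
              rw [this.eq]; group
        rw [← hij, hxz] at h5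
        have h6 : z * z = z := h5.symm
        rw [hzz] at h6
        exact P.E1.z1 h6.symm

end Cfsg.Agent.H810.KM
end
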